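import Mathlib
import Cfsg.Agent.Lib.Coprime.Quotient
import Cfsg.Agent.Lib.GaloisChar.Basic
import Cfsg.Agent.Lib.PF.Final.TypeV.Setup
import Cfsg.Agent.Lib.PF.Final.TypeV.ThetaQuot

/-!
# The fixed characters of `Q / Q₁` for a maximal subgroup of type V

For a top kernel `Q₁` the quotient `Q / Q₁` has one irreducible character fixed by `W₂` for each
linear character of `W₁`; the non-trivial ones have a common degree `d` with `d = ±1 (mod p)`,
`2 p ≤ d + 1` and `q d² ≤ |Q : Q₁|`.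
-/

set_option autoImplicit false
set_option linter.unusedSectionVars false
set_option linter.style.haveILetI false

namespace Cfsg.Agent.Lib.PF.Final.TypeV

open Cfsg Subgroup
open Cfsg.Agent.Lib Cfsg.Agent.Lib.Chars Cfsg.Agent.Lib.OddMax Cfsg.Agent.Lib.OddMax.Sec13
open Cfsg.Agent.Lib.OddMax.Sec14
open Cfsg.Agent.Lib.PF.Sec4 (CyclicComplement)
open scoped commutatorElement

universe u

/-- The hypothesis of Peterfalvi, Section 4, passes to quotients. -/
theorem cyclicComplement_map {L : Type u} [Group L] [Finite L] {K A B : Subgroup L}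
    (h : CyclicComplement K A B) (hodd : Odd (Nat.card L)) (N : Subgroup L) [N.Normal]
    (hNK : N ≤ K) (hBN : B ⊓ N = ⊥) :
    CyclicComplement (K.map (QuotientGroup.mk' N)) (A.map (QuotientGroup.mk' N))
      (B.map (QuotientGroup.mk' N)) := by
  set f := QuotientGroup.mk' N
  have hf : Function.Surjective f := QuotientGroup.mk'_surjective N
  haveI := h.normal
  have hker : f.ker = N := QuotientGroup.ker_mk' N
  have hAN : A ⊓ N = ⊥ := le_bot_iff.mp (fun x hx => h.inf_eq ▸ ⟨hNK hx.2, hx.1⟩)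
  have hne : ∀ H : Subgroup L, H ≠ ⊥ → H ⊓ N = ⊥ → H.map f ≠ ⊥ := fun H hH hHN e => hH (by
    rw [← hHN, left_eq_inf, ← hker]
    exact (map_eq_bot_iff H).mp e)
  exact
    { normal := h.normal.map f hf
      inf_eq := eq_bot_iff.mpr fun _ hy => by
        obtain ⟨⟨k, hk, rfl⟩, a, ha, hak⟩ := hy
        have haK : k * (k⁻¹ * a) ∈ K := K.mul_mem hk (hNK (QuotientGroup.eq.mp hak.symm))
        rw [mul_inv_cancel_left] at haK
        rw [mem_bot, ← hak, mem_bot.mp (h.inf_eq.le ⟨haK, ha⟩), map_one]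
      sup_eq := by rw [← Subgroup.map_sup, h.sup_eq, ← MonoidHom.range_eq_map, MonoidHom.range_eq_top.mpr hf]
      left_ne := hne A h.left_ne hAN
      left_cyclic :=
        haveI := h.left_cyclic
        isCyclic_of_surjective (f.subgroupMap A) (f.subgroupMap_surjective A)
      coprime_index := (h.coprime_index.coprime_dvd_left (card_map_dvd A f)).coprime_dvd_right
        (index_map_dvd A hf)
      right_ne := hne B h.right_ne hBN
      right_cyclic :=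
        haveI := h.right_cyclic
        isCyclic_of_surjective (f.subgroupMap B) (f.subgroupMap_surjective B)
      right_le := map_mono h.right_le
      cent := by
        rintro _ ⟨a, ha, rfl⟩ hx1
        have ha1 : a ≠ 1 := fun e => hx1 (by rw [e, map_one])
        have hz : ∀ {M : Type u} [Group M] (y : M),
            centralizer (zpowers y : Set M) = centralizer ({y} : Set M) := fun y => by
          rw [zpowers_eq_closure, centralizer_closure]
        have hm := Coprime.map_inf_centralizer f (A := zpowers a) (K := K)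
          (normalizer_eq_top (H := K) ▸ le_top)
          ((h.coprime_card.coprime_dvd_left (card_dvd_of_le (zpowers_le.mpr ha))).coprime_dvd_right
            (card_dvd_of_le inf_le_right))
          (Or.inl (Group.isSolvable_of_comm fun u v => Subtype.ext (by
            obtain ⟨i, hi⟩ := u.2
            obtain ⟨j, hj⟩ := v.2
            rw [Subgroup.coe_mul, Subgroup.coe_mul, ← hi, ← hj]
            exact zpow_mul_comm a i j)))
        rw [hz, h.cent a ha ha1, MonoidHom.map_zpowers, hz] at hm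
        exact hm.symm
      odd := (hodd.of_dvd_nat (N.card_quotient_dvd_card)).of_dvd_nat (card_subgroup_dvd_card _) }

variable {G : Type u} [Group G] [Fintype G] {T W₂ W₁ Q₁ : Subgroup G}

/-- The action of a field automorphism on linear characters. -/
noncomputable def galHom (σ : ℂ ≃+* ℂ) {M : Type u} [Group M] (ψ : M →* ℂˣ) : M →* ℂˣ :=
  (Units.map σ.toRingHom.toMonoidHom).comp ψ

theorem coe_galHom (σ : ℂ ≃+* ℂ) {M : Type u} [Group M] (ψ : M →* ℂˣ) (b : M) :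
    (galHom σ ψ b : ℂ) = σ (ψ b) := rfl

/-- `θ` consists of the irreducible characters of `Q` trivial on `Q₁` and fixed by `W₂`, indexed by
their central character on `W₁`. -/
structure ThetaSys (T W₂ W₁ Q₁ : Subgroup G) (hW : W₁ ≤ sigmaCore T)
    (θ : (↥W₁ →* ℂˣ) → ↥(sigmaCore T) → ℂ) (d : ℕ) : Prop where
  irr : ∀ ψ, IsIrrCharacter ↥(sigmaCore T) (θ ψ)
  one : θ 1 = fun _ => 1
  trivial : ∀ ψ, ∀ a u : ↥(sigmaCore T), (a : G) ∈ Q₁ → θ ψ (a * u) = θ ψ u
  fixed : ∀ ψ, ∀ x ∈ T, ∀ u v : ↥(sigmaCore T), (v : G) = x * u * x⁻¹ → θ ψ v = θ ψ u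
  value : ∀ ψ, ∀ (b : W₁) (u : ↥(sigmaCore T)),
    θ ψ (Subgroup.inclusion hW b * u) = (ψ b : ℂ) * θ ψ u
  injective : Function.Injective θ
  degree : ∀ ψ, ψ ≠ 1 → θ ψ 1 = (d : ℂ)
  unique : ∀ z ∈ W₂, z ≠ 1 → ∀ η : ↥(sigmaCore T) → ℂ, IsIrrCharacter ↥(sigmaCore T) η →
    (∀ a u : ↥(sigmaCore T), (a : G) ∈ Q₁ → η (a * u) = η u) →
    (∀ u v : ↥(sigmaCore T), (v : G) = z * u * z⁻¹ → η v = η u) → ∃ ψ, η = θ ψ
  gal : ∀ (σ : ℂ ≃+* ℂ) ψ, (fun u => σ (θ ψ u)) = θ (galHom σ ψ)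
  congr : Nat.card W₂ ∣ d - 1 ∨ Nat.card W₂ ∣ d + 1
  two_card_le : 2 * Nat.card W₂ ≤ d + 1
  eq_pow : ∃ k, d = Nat.card W₁ ^ k
  sq_le : Nat.card W₁ * d ^ 2 ≤ Q₁.relIndex (sigmaCore T)

theorem ThetaSys.card_mul_le {hW : W₁ ≤ sigmaCore T} {θ} {d : ℕ}
    (hθ : ThetaSys T W₂ W₁ Q₁ hW θ d) (hQ : Q₁ ≤ sigmaCore T) {Z : Subgroup G} (hZ : Z ≤ Q₁) :
    Nat.card Z * (Nat.card W₁ * d ^ 2) ≤ Nat.card (sigmaCore T) := by
  rw [← relIndex_bot_left (sigmaCore T), ← relIndex_mul_relIndex ⊥ Q₁ _ bot_le hQ,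
    relIndex_bot_left]
  exact Nat.mul_le_mul (Nat.le_of_dvd Nat.card_pos (card_dvd_of_le hZ)) hθ.sq_le


namespace Aux

/-- `Q → Q / Q₁`, into the quotient of `T`. -/
def proj (h : FiveSetup T W₂ W₁) (Q₁ : Subgroup G) [(Q₁.subgroupOf T).Normal] :
    ↥(sigmaCore T) →* ↥((sigmaIn T).map (QuotientGroup.mk' (Q₁.subgroupOf T))) :=
  ((QuotientGroup.mk' (Q₁.subgroupOf T)).subgroupMap (sigmaIn T)).comp
    (subgroupOfEquivOfLe h.core_le).symm.toMonoidHom

variable (h : FiveSetup T W₂ W₁) (hQ : IsTopKernel T W₁ Q₁) [hN : (Q₁.subgroupOf T).Normal]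
include h hQ

omit hQ in
theorem coe_proj (u : ↥(sigmaCore T)) :
    ((proj h Q₁ u : ↥((sigmaIn T).map (QuotientGroup.mk' (Q₁.subgroupOf T)))) : ↥T ⧸ Q₁.subgroupOf T)
      = QuotientGroup.mk' (Q₁.subgroupOf T) ⟨(u : G), h.core_le u.2⟩ := rfl

omit hQ in
theorem proj_surjective : Function.Surjective (proj h Q₁) :=
  (MonoidHom.subgroupMap_surjective _ _).comp (MulEquiv.surjective _)

omit hQ in
theorem mem_ker_proj (u : ↥(sigmaCore T)) : u ∈ (proj h Q₁).ker ↔ (u : G) ∈ Q₁ := by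
  rw [MonoidHom.mem_ker, Subtype.ext_iff, coe_proj h]
  exact (QuotientGroup.eq_one_iff _).trans mem_subgroupOf

theorem card_image : Nat.card ↥((sigmaIn T).map (QuotientGroup.mk' (Q₁.subgroupOf T))) =
    Q₁.relIndex (sigmaCore T) := by
  rw [Subgroup.relIndex, show Q₁.subgroupOf (sigmaCore T) = (proj h Q₁).ker from
    SetLike.ext fun u => mem_subgroupOf.trans (mem_ker_proj h u).symm, Subgroup.index_ker,
    MonoidHom.range_eq_top.mpr (proj_surjective h), Subgroup.card_top]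

theorem inf_kernel {H : Subgroup G} (hH : H ⊓ Q₁ = ⊥) : H.subgroupOf T ⊓ Q₁.subgroupOf T = ⊥ :=
  eq_bot_iff.mpr fun x hx => mem_bot.mpr (Subtype.ext (mem_bot.mp (hH.le ⟨hx.1, hx.2⟩)))

theorem inj_right : Function.Injective
    (((QuotientGroup.mk' (Q₁.subgroupOf T)).subgroupMap (W₁.subgroupOf T))) := by
  refine (injective_iff_map_eq_one _).mpr fun x hx => ?_
  refine Subtype.ext (mem_bot.mp ((inf_kernel h hQ (H := W₁) ?_).le
    ⟨x.2, (QuotientGroup.eq_one_iff _).mp (congrArg Subtype.val hx)⟩))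
  rw [inf_comm]
  exact h.topKernel_inf hQ

/-- `W₁` is central modulo a top kernel. -/
theorem central_mod :
    ∀ b ∈ (W₁.subgroupOf T).map (QuotientGroup.mk' (Q₁.subgroupOf T)),
      ∀ u ∈ (sigmaIn T).map (QuotientGroup.mk' (Q₁.subgroupOf T)), b * u = u * b := by
  set f := QuotientGroup.mk' (Q₁.subgroupOf T)
  have hf : Function.Surjective f := QuotientGroup.mk'_surjective _
  set Kb := (sigmaIn T).map f with hKb
  haveI := h.nilpotent_sigmaIn
  haveI : Group.IsNilpotent Kb := Group.nilpotent_of_surjective _ (f.subgroupMap_surjective _)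
  haveI : Kb.Normal := Subgroup.Normal.map h.cyclicComplement.normal f hf
  set Zc := (center ↥Kb).map Kb.subtype
  haveI : Zc.Normal := inferInstance
  set C := (Zc.comap f).map T.subtype
  have hNQ : Q₁.subgroupOf T ≤ sigmaIn T := comap_mono hQ.le
  have hCQ : C ≤ sigmaCore T := by
    rintro _ ⟨x, hx, rfl⟩
    obtain ⟨y, hy, hyx⟩ : f x ∈ Kb := map_subtype_le _ hx
    have hd : y⁻¹ * x ∈ Q₁.subgroupOf T := QuotientGroup.eq.mp hyx
    have := (sigmaIn T).mul_mem hy (hNQ hd)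
    rwa [← mul_assoc, mul_inv_cancel, one_mul] at this
  have hCn : T ≤ normalizer (C : Set G) := Sec9.le_normalizer_of_conj fun g hg y hy => by
    obtain ⟨x, hx, rfl⟩ := hy
    exact ⟨⟨g, hg⟩ * x * ⟨g, hg⟩⁻¹, (inferInstance : (Zc.comap f).Normal).conj_mem x hx _, rfl⟩
  have hQC : Q₁ ≤ C := fun x hx => ⟨⟨x, h.core_le (hQ.le hx)⟩, by
    show f _ ∈ Zc
    rw [show f ⟨x, h.core_le (hQ.le hx)⟩ = 1 from (QuotientGroup.eq_one_iff _).mpr hx]
    exact one_mem _, rfl⟩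
  by_cases hW : W₁ ≤ C
  · rintro _ ⟨b, hb, rfl⟩ u hu
    obtain ⟨x, hx, hxb⟩ := hW hb
    obtain rfl : x = b := Subtype.ext hxb
    obtain ⟨z, hz, hzx⟩ := hx
    rw [← hzx]
    exact (congrArg Subtype.val (mem_center_iff.mp hz ⟨u, hu⟩)).symm
  · exfalso
    have hCe := hQ.eq_of_le C hCQ hCn hQC hW
    have hne : Nontrivial Kb := by
      rw [Subgroup.nontrivial_iff_ne_bot, ne_eq, hKb, Subgroup.map_eq_bot_iff, QuotientGroup.ker_mk']
      intro hle
      exact hQ.not_le fun w hw => hle (x := ⟨w, h.W₁_le_T hw⟩) (h.W₁_le hw)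
    haveI : Nontrivial ↥(center ↥Kb) :=
      (Subgroup.nontrivial_iff_ne_bot _).mpr (Group.IsNilpotent.center_ne_bot _)
    obtain ⟨z, hz1⟩ := exists_ne (1 : ↥(center ↥Kb))
    obtain ⟨x, hx⟩ := hf ((z : ↥Kb) : ↥T ⧸ Q₁.subgroupOf T)
    have hxC : (x : G) ∈ C := ⟨x, ⟨z, z.2, hx.symm⟩, rfl⟩
    rw [hCe] at hxC
    exact hz1 (Subtype.ext (Subtype.ext (hx.symm.trans ((QuotientGroup.eq_one_iff x).mpr hxC))))

/-- `W₁` is in the derived group modulo `Q₁`. -/
theorem right_le_commutator : (W₁.subgroupOf T).map (QuotientGroup.mk' (Q₁.subgroupOf T)) ≤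
    ⁅(sigmaIn T).map (QuotientGroup.mk' (Q₁.subgroupOf T)),
      (sigmaIn T).map (QuotientGroup.mk' (Q₁.subgroupOf T))⁆ := by
  rw [← map_commutator]
  refine map_mono fun x hx => ?_
  have h1 : ⁅sigmaIn T, sigmaIn T⁆.map T.subtype = ⁅sigmaCore T, sigmaCore T⁆ := by
    rw [map_commutator, show (sigmaIn T).map T.subtype = sigmaCore T from
      map_subgroupOf_eq_of_le h.core_le]
  obtain ⟨y, hy, hyx⟩ := h1.ge (h.W₁_le_derived (show (x : G) ∈ W₁ from hx))
  obtain rfl : y = x := Subtype.ext hyx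
  exact hy

end Aux

/-- The family of `W₂`-fixed characters of `Q / Q₁`. -/
theorem exists_thetaSys (h : FiveSetup T W₂ W₁) (hQ : IsTopKernel T W₁ Q₁) :
    ∃ θ d, ThetaSys T W₂ W₁ Q₁ h.W₁_le θ d := by
  classical
  haveI : (Q₁.subgroupOf T).Normal := normal_subgroupOf_of_le_normalizer hQ.normal
  set f := QuotientGroup.mk' (Q₁.subgroupOf T)
  haveI := Fact.mk h.prime_q
  haveI : Fintype (↥T ⧸ Q₁.subgroupOf T) := Fintype.ofFinite _
  have hW1N : W₁ ⊓ Q₁ = ⊥ := by rw [inf_comm]; exact h.topKernel_inf hQ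
  have hW2N : W₂ ⊓ Q₁ = ⊥ := eq_bot_iff.mpr fun x hx => h.compl.2.2.1.le ⟨hQ.le hx.2, hx.1⟩
  have hoddT : Odd (Nat.card T) := h.odd_card T
  have hC := cyclicComplement_map h.cyclicComplement hoddT (Q₁.subgroupOf T)
    (comap_mono hQ.le) (Aux.inf_kernel h hQ hW1N)
  let e : ↥W₁ ≃* ↥((W₁.subgroupOf T).map f) := (subgroupOfEquivOfLe h.W₁_le_T).symm.trans
    (MulEquiv.ofBijective (f.subgroupMap (W₁.subgroupOf T))
      ⟨Aux.inj_right h hQ, f.subgroupMap_surjective _⟩)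
  have hcB : Nat.card ↥((W₁.subgroupOf T).map f) = Nat.card W₁ := (Nat.card_congr e.toEquiv).symm
  have hcA : Nat.card ↥((W₂.subgroupOf T).map f) = Nat.card W₂ := by
    rw [← Nat.card_congr (subgroupOfEquivOfLe h.W₂_le).toEquiv]
    refine (Nat.card_congr (Equiv.ofBijective _
      ⟨(injective_iff_map_eq_one _).mpr fun x hx => ?_, f.subgroupMap_surjective _⟩)).symm
    exact Subtype.ext (mem_bot.mp ((Aux.inf_kernel h hQ hW2N).le
      ⟨x.2, (QuotientGroup.eq_one_iff _).mp (congrArg Subtype.val hx)⟩))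
  obtain ⟨θ', hθ'⟩ := exists_thetaQuot hC (hcB ▸ h.prime_q) (Aux.central_mod h hQ)
    (Aux.right_le_commutator h hQ) (hoddT.of_dvd_nat (Q₁.subgroupOf T).card_quotient_dvd_card)
  set π := Aux.proj h Q₁
  have hπ : Function.Surjective π := Aux.proj_surjective h
  let θ : (↥W₁ →* ℂˣ) → ↥(sigmaCore T) → ℂ := fun ψ u => θ' (ψ.comp e.symm.toMonoidHom) (π u)
  have hirr : ∀ ψ, IsIrrCharacter ↥(sigmaCore T) (θ ψ) := fun ψ =>
    isIrrCharacter_comp_surjective π hπ (hθ'.irr _)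
  have htriv : ∀ ψ, ∀ a u : ↥(sigmaCore T), (a : G) ∈ Q₁ → θ ψ (a * u) = θ ψ u := fun ψ a u ha => by
    show θ' _ (π (a * u)) = θ' _ (π u)
    rw [map_mul, show π a = 1 from (Aux.mem_ker_proj h a).mpr ha, one_mul]
  have hfix : ∀ ψ, ∀ x ∈ T, ∀ u v : ↥(sigmaCore T), (v : G) = x * u * x⁻¹ → θ ψ v = θ ψ u :=
    fun ψ x hx u v huv => hθ'.fixed _ (f ⟨x, hx⟩) (π u) (π v) (by
      rw [Aux.coe_proj h, Aux.coe_proj h, ← map_inv f, ← map_mul f, ← map_mul f]
      exact congrArg f (Subtype.ext huv))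
  have hval : ∀ ψ, ∀ (b : W₁) (u : ↥(sigmaCore T)),
      θ ψ (Subgroup.inclusion h.W₁_le b * u) = (ψ b : ℂ) * θ ψ u := fun ψ b u => by
    have := hθ'.value (ψ.comp e.symm.toMonoidHom) (e b) (π u)
    simp only [θ, map_mul]
    rw [show π (Subgroup.inclusion h.W₁_le b) = Subgroup.inclusion hC.right_le (e b) from
      Subtype.ext rfl, this]
    simp
  have hinj : Function.Injective θ := fun ψ ψ' he => MonoidHom.ext fun b => Units.ext (by
    have e1 := hval ψ b 1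
    rw [he, hval ψ' b 1] at e1
    exact (mul_right_cancel₀ (irr_apply_one_ne_zero ⟨_, hirr ψ'⟩) e1).symm)
  have huniq : ∀ z ∈ W₂, z ≠ 1 → ∀ η : ↥(sigmaCore T) → ℂ, IsIrrCharacter ↥(sigmaCore T) η →
      (∀ a u : ↥(sigmaCore T), (a : G) ∈ Q₁ → η (a * u) = η u) →
      (∀ u v : ↥(sigmaCore T), (v : G) = z * u * z⁻¹ → η v = η u) → ∃ ψ, η = θ ψ := by
    intro z hz hz1 η hη hηN hηz
    obtain ⟨η₀, hη₀⟩ := exists_irr_quotient π.ker ⟨η, hη⟩ fun x hx => by
      simpa using hηN x 1 ((Aux.mem_ker_proj h x).mp hx)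
    let eπ := QuotientGroup.quotientKerEquivOfSurjective π hπ
    have heπ : ∀ u, eπ.symm (π u) = (u : ↥(sigmaCore T) ⧸ π.ker) := fun u => by
      rw [MulEquiv.symm_apply_eq]; rfl
    have hzT : z ∈ T := h.W₂_le hz
    have hz1' : f ⟨z, hzT⟩ ≠ 1 := fun hzf => hz1 (mem_bot.mp (hW2N.le
      ⟨hz, mem_subgroupOf.mp ((QuotientGroup.eq_one_iff (N := Q₁.subgroupOf T) ⟨z, hzT⟩).mp hzf)⟩))
    obtain ⟨ψ', hψ'⟩ := hθ'.unique (f ⟨z, hzT⟩) ⟨_, hz, rfl⟩ hz1'
      (fun x => (η₀ : _ → ℂ) (eπ.symm x)) (isIrrCharacter_comp_mulEquiv eπ.symm η₀.2)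
      fun a b hab => by
        obtain ⟨u, rfl⟩ := hπ a
        obtain ⟨v, rfl⟩ := hπ b
        have hcm : z * u * z⁻¹ ∈ sigmaCore T :=
          (mem_normalizer_iff.mp (h.normal_core hzT) u).mp u.2
        have : π v = π ⟨z * u * z⁻¹, hcm⟩ := Subtype.ext (hab.trans (by
          rw [Aux.coe_proj h, Aux.coe_proj h, ← map_inv f, ← map_mul f, ← map_mul f]
          rfl))
        simp only [this, heπ, hη₀]
        exact hηz u ⟨_, hcm⟩ rfl
    refine ⟨ψ'.comp e.toMonoidHom, funext fun u => ?_⟩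
    have := congrFun hψ' (π u)
    simp only [heπ, hη₀] at this
    rw [this]
    simp only [θ]
    congr 1
    ext b
    simp
  have hgal : ∀ (σ : ℂ ≃+* ℂ) ψ, (fun u => σ (θ ψ u)) = θ (galHom σ ψ) := by
    intro σ ψ
    obtain ⟨z, hz, hz1⟩ : ∃ z ∈ W₂, z ≠ 1 := by
      by_contra hc
      push Not at hc
      exact h.W₂_ne (eq_bot_iff.mpr fun x hx => mem_bot.mpr (hc x hx))
    obtain ⟨ψ', hψ'⟩ := huniq z hz hz1 _
      (GaloisChar.isIrrCharacter_gal σ.toRingHom (hirr ψ))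
      (fun a u ha => congrArg σ (htriv ψ a u ha))
      (fun u v huv => congrArg σ (hfix ψ z (h.W₂_le hz) u v huv))
    have : ψ' = galHom σ ψ := MonoidHom.ext fun b => Units.ext (by
      have e1 := congrFun hψ' (Subgroup.inclusion h.W₁_le b * 1)
      have e2 := congrFun hψ' 1
      simp only [RingEquiv.toRingHom_eq_coe, RingEquiv.coe_toRingHom] at e1 e2
      rw [hval, hval, map_mul, e2] at e1
      rw [coe_galHom]
      exact (mul_right_cancel₀ (irr_apply_one_ne_zero ⟨_, hirr ψ'⟩) e1).symm)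
    rw [← this]
    exact hψ'
  haveI : IsCyclic W₁ := isCyclic_of_prime_card rfl
  letI : CommGroup W₁ := IsCyclic.commGroup
  obtain ⟨g, hg⟩ := IsCyclic.exists_generator (α := W₁)
  have hg1 : g ^ Nat.card W₁ = 1 := pow_card_eq_one'
  have hroot : ∀ ψ : ↥W₁ →* ℂˣ, ψ ≠ 1 → IsPrimitiveRoot (ψ g : ℂ) (Nat.card W₁) := fun ψ hψ => by
    have hz : (ψ g : ℂ) ^ Nat.card W₁ = 1 := by
      rw [← Units.val_pow_eq_pow_val, ← map_pow, hg1, map_one, Units.val_one]
    rw [IsPrimitiveRoot.iff_orderOf, orderOf_eq_prime hz fun e1 => hψ (MonoidHom.ext fun b => ?_)]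
    obtain ⟨j, rfl⟩ := hg b
    show ψ (g ^ j) = 1
    rw [map_zpow, show ψ g = 1 from Units.ext e1, one_zpow]
  have hdeg : ∀ ψ ψ' : ↥W₁ →* ℂˣ, ψ ≠ 1 → ψ' ≠ 1 → ∀ d : ℕ, θ ψ 1 = d → θ ψ' 1 = d := by
    intro ψ ψ' hψ hψ' d hd
    obtain ⟨k, -, hk, hkζ⟩ := ((hroot ψ hψ).isPrimitiveRoot_iff).mp (hroot ψ' hψ')
    obtain ⟨σ, hσ⟩ := GaloisChar.exists_ringEquiv_pow h.prime_q.pos hk
    have hσψ : galHom σ ψ = ψ' := MonoidHom.ext fun b => Units.ext (by
      obtain ⟨j, rfl⟩ := hg b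
      show (galHom σ ψ (g ^ j) : ℂ) = (ψ' (g ^ j) : ℂ)
      rw [map_zpow, map_zpow, Units.val_zpow_eq_zpow_val, Units.val_zpow_eq_zpow_val, coe_galHom,
        hσ _ (hroot ψ hψ).pow_eq_one, hkζ])
    rw [← hσψ, ← congrFun (hgal σ ψ) 1, hd, map_natCast]
  obtain ⟨ψ₀, hψ₀⟩ : ∃ ψ₀ : ↥W₁ →* ℂˣ, ψ₀ ≠ 1 := by
    haveI : Nontrivial (↥W₁ →* ℂˣ) := by
      haveI : Finite (↥W₁ →* ℂˣ) := Nat.finite_of_card_ne_zero
        (by rw [CommGroup.card_monoidHom_of_hasEnoughRootsOfUnity W₁ ℂ]; exact h.prime_q.ne_zero)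
      rw [← Finite.one_lt_card_iff_nontrivial,
        CommGroup.card_monoidHom_of_hasEnoughRootsOfUnity W₁ ℂ]
      exact h.prime_q.one_lt
    exact exists_ne 1
  have hcomp : ψ₀.comp e.symm.toMonoidHom ≠ 1 := fun he => hψ₀ (MonoidHom.ext fun b => by
    simpa using DFunLike.congr_fun he (e b))
  obtain ⟨d, hd, hdK, hAd, hsq, hor⟩ := hθ'.degree _ hcomp
  rw [hcA] at hAd hor
  rw [hcB, Aux.card_image h hQ] at hsq
  rw [Aux.card_image h hQ] at hdK
  have hd0 : θ ψ₀ 1 = (d : ℂ) := by simp only [θ, map_one]; exact hd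
  refine ⟨θ, d, hirr, ?_, htriv, hfix, hval, hinj,
    fun ψ hψ => hdeg ψ₀ ψ hψ₀ hψ d hd0, huniq, hgal, hor, hAd, ?_, hsq⟩
  · show (fun u => θ' (MonoidHom.comp 1 e.symm.toMonoidHom) (π u)) = _
    rw [MonoidHom.one_comp, hθ'.one]
  · obtain ⟨k, hk⟩ := h.exists_relIndex_eq_pow hQ
    obtain ⟨i, -, hi⟩ := (Nat.dvd_prime_pow h.prime_q).mp (hk ▸ hdK)
    exact ⟨i, hi⟩

end Cfsg.Agent.Lib.PF.Final.TypeV
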